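import Groth.Agent.Hensel.QuasiFiniteSplit
import Mathlib.AlgebraicGeometry.Morphisms.QuasiFinite
import Mathlib.AlgebraicGeometry.Morphisms.Finite
import Mathlib.AlgebraicGeometry.ZariskisMainTheorem

/-! Splitting off the quasi-finite points of the closed fibre over a henselian local base. -/

set_option autoImplicit false
set_option backward.isDefEq.respectTransparency false
set_option backward.isDefEq.respectTransparency.types false

universe u

open CategoryTheory CategoryTheory.Limits AlgebraicGeometry TopologicalSpace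

noncomputable section

namespace Groth.Agent.QfSplit16

variable {A : Type u} [CommRing A] {X : Scheme.{u}} (f : X ⟶ Spec (CommRingCat.of A))

/-- The structure map of the functions on an open of a scheme over `Spec A`. -/
def str (V : X.Opens) : CommRingCat.of A ⟶ Γ(X, V) :=
  (Scheme.ΓSpecIso (CommRingCat.of A)).inv ≫ f.appLE ⊤ V le_top

theorem str_map {V W : X.Opens} (h : W ≤ V) : str f V ≫ X.presheaf.map (homOfLE h).op = str f W := by
  rw [str, str, Category.assoc, Scheme.Hom.appLE_map]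

theorem fromSpec_comp {V : X.Opens} (hV : IsAffineOpen V) : hV.fromSpec ≫ f = Spec.map (str f V) := by
  rw [str, Spec.map_comp, ← IsAffineOpen.SpecMap_appLE_fromSpec f (isAffineOpen_top _) hV le_top,
    IsAffineOpen.fromSpec_top, Scheme.isoSpec_Spec_inv]

theorem comap_primeIdealOf {V : X.Opens} (hV : IsAffineOpen V) (x : V) :
    (hV.primeIdealOf x).asIdeal.comap (str f V).hom = (f x.1).asIdeal := by
  have h := congrArg (fun k => k (hV.primeIdealOf x)) (fromSpec_comp f hV)
  simp only [Scheme.Hom.comp_apply] at h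
  rw [IsAffineOpen.fromSpec_primeIdealOf] at h
  rw [h]
  rfl

theorem finite_of_affine {W : X.Opens} (hW : IsAffineOpen W) (h : (str f W).hom.Finite) :
    IsFinite (W.ι ≫ f) := by
  have : W.ι ≫ f = hW.isoSpec.hom ≫ Spec.map (str f W) := by
    rw [← fromSpec_comp f hW]
    show W.ι ≫ f = hW.isoSpec.hom ≫ (hW.isoSpec.inv ≫ W.ι) ≫ f
    rw [Category.assoc, Iso.hom_inv_id_assoc]
  rw [this]
  haveI := (IsFinite.SpecMap_iff (str f W)).2 h
  infer_instance

variable [IsLocalRing A]

/-- A quasi-finite point of the closed fibre has a local, finite, affine neighbourhood. -/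
theorem exists_finite_local_nhd [HenselianLocalRing A] [LocallyOfFiniteType f] {x : X}
    (hx : f x = IsLocalRing.closedPoint A) (hqf : f.QuasiFiniteAt x) :
    ∃ (W : X.Opens) (_ : IsAffineOpen W), x ∈ W ∧ (str f W).hom.Finite ∧ IsLocalRing Γ(X, W) := by
  obtain ⟨V, hV, hxV, -⟩ := exists_isAffineOpen_mem_and_subset (X := X) (x := x) (U := ⊤) trivial
  letI : Algebra A Γ(X, V) := (str f V).hom.toAlgebra
  haveI : Algebra.FiniteType A Γ(X, V) := by
    have h1 : (str f V).hom.FiniteType := by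
      have h2 : LocallyOfFiniteType (Spec.map (str f V)) := by
        rw [← fromSpec_comp f hV]
        infer_instance
      exact (HasRingHomProperty.Spec_iff (P := @LocallyOfFiniteType)).1 h2
    exact h1
  let q := (hV.primeIdealOf ⟨x, hxV⟩).asIdeal
  haveI : q.LiesOver (IsLocalRing.maximalIdeal A) := ⟨by
    show IsLocalRing.maximalIdeal A = q.comap (str f V).hom
    rw [comap_primeIdealOf f hV ⟨x, hxV⟩, hx]
    rfl⟩
  haveI : Algebra.QuasiFiniteAt A q := by
    have h1 := hqf.quasiFiniteAt hV (isAffineOpen_top _) le_top hxV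
    letI := (f.appLE ⊤ V le_top).hom.toAlgebra
    have h2 : Algebra.QuasiFinite Γ(Spec (CommRingCat.of A), ⊤) (Localization.AtPrime q) := h1
    show Algebra.QuasiFinite A (Localization.AtPrime q)
    rw [← RingHom.quasiFinite_algebraMap] at h2 ⊢
    have h3 := h2.comp (RingHom.QuasiFinite.of_finite
      (RingHom.Finite.of_surjective (Scheme.ΓSpecIso (CommRingCat.of A)).inv.hom
        (ConcreteCategory.bijective_of_isIso (Scheme.ΓSpecIso (CommRingCat.of A)).inv).2))
    exact h3
  obtain ⟨e, he, heq, hfin, hloc⟩ := Hensel.exists_idempotent_of_quasiFiniteAt A q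
  letI := (X.presheaf.map (homOfLE (X.basicOpen_le e)).op).hom.toAlgebra
  haveI : IsLocalization.Away e Γ(X, X.basicOpen e) := hV.isLocalization_basicOpen e
  haveI : IsLocalization.Away e (Γ(X, V) ⧸ Ideal.span {1 - e}) :=
    IsLocalization.away_of_isIdempotentElem he Ideal.mk_ker Ideal.Quotient.mk_surjective
  let ε := IsLocalization.algEquiv (Submonoid.powers e) (Γ(X, V) ⧸ Ideal.span {1 - e}) Γ(X, X.basicOpen e)
  refine ⟨X.basicOpen e, hV.basicOpen e, ?_, ?_, ε.toRingEquiv.isLocalRing⟩
  · have h1 : hV.primeIdealOf ⟨x, hxV⟩ ∈ hV.fromSpec ⁻¹ᵁ X.basicOpen e := by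
      rw [hV.fromSpec_preimage_basicOpen]
      exact heq
    have h2 : hV.fromSpec (hV.primeIdealOf ⟨x, hxV⟩) ∈ X.basicOpen e := h1
    rwa [hV.fromSpec_primeIdealOf] at h2
  · rw [← str_map f (X.basicOpen_le e)]
    have h1 : (algebraMap A (Γ(X, V) ⧸ Ideal.span {1 - e})).Finite := RingHom.finite_algebraMap.2 hfin
    have h2 := (RingHom.Finite.of_surjective ε.toRingEquiv.toRingHom ε.surjective).comp h1
    have h3 : (str f V ≫ X.presheaf.map (homOfLE (X.basicOpen_le e)).op).hom =
        ε.toRingEquiv.toRingHom.comp (algebraMap A (Γ(X, V) ⧸ Ideal.span {1 - e})) :=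
      RingHom.ext fun a => (ε.commutes ((str f V).hom a)).symm
    rw [h3]
    exact h2

theorem isClosed_of_finite [IsSeparated f] {W : X.Opens} (h : IsFinite (W.ι ≫ f)) : IsClosed (W : Set X) := by
  haveI := h
  haveI : IsFinite W.ι := IsFinite.of_comp W.ι f
  have := W.ι.isClosedMap.isClosed_range
  rwa [Scheme.Opens.range_ι] at this

theorem finite_sup [IsSeparated f] [LocallyOfFiniteType f] [LocallyQuasiFinite f] {U W : X.Opens}
    (hU : IsFinite (U.ι ≫ f)) (hW : IsFinite (W.ι ≫ f)) : IsFinite ((U ⊔ W).ι ≫ f) := by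
  let c : U.toScheme ⨿ W.toScheme ⟶ (U ⊔ W).toScheme :=
    coprod.desc (X.homOfLE le_sup_left) (X.homOfLE le_sup_right)
  haveI : Surjective c := ⟨fun y => by
    rcases Opens.mem_sup.1 y.2 with h | h
    · refine ⟨(coprod.inl : U.toScheme ⟶ U.toScheme ⨿ W.toScheme) ⟨y.1, h⟩, ?_⟩
      rw [← Scheme.Hom.comp_apply, coprod.inl_desc]
      exact Subtype.ext (by simp)
    · refine ⟨(coprod.inr : W.toScheme ⟶ U.toScheme ⨿ W.toScheme) ⟨y.1, h⟩, ?_⟩
      rw [← Scheme.Hom.comp_apply, coprod.inr_desc]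
      exact Subtype.ext (by simp)⟩
  have e : c ≫ (U ⊔ W).ι ≫ f = coprod.desc (U.ι ≫ f) (W.ι ≫ f) := by
    apply coprod.hom_ext <;> simp [c]
  haveI := hU
  haveI := hW
  haveI : IsFinite (c ≫ (U ⊔ W).ι ≫ f) := by rw [e]; infer_instance
  haveI : UniversallyClosed ((U ⊔ W).ι ≫ f) := UniversallyClosed.of_comp_surjective c _
  haveI : LocallyQuasiFinite ((U ⊔ W).ι ≫ f) := inferInstance
  haveI : IsProper ((U ⊔ W).ι ≫ f) := { }
  exact IsFinite.of_isProper_of_locallyQuasiFinite _

theorem exists_finite_clopen [HenselianLocalRing A] [IsSeparated f] [LocallyOfFiniteType f] [QuasiCompact f]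
    [LocallyQuasiFinite f] :
    ∃ U : X.Opens, IsClosed (U : Set X) ∧ IsFinite (U.ι ≫ f) ∧
      ∀ x : X, f x = IsLocalRing.closedPoint A → x ∈ U := by
  classical
  let F := f ⁻¹' {IsLocalRing.closedPoint A}
  have hF : F.Finite := f.finite_preimage_singleton _
  suffices h : ∀ s : Finset X, (∀ x ∈ s, x ∈ F) → ∃ U : X.Opens, IsFinite (U.ι ≫ f) ∧ ∀ x ∈ s, x ∈ U by
    obtain ⟨U, hU, hs⟩ := h hF.toFinset fun x hx => hF.mem_toFinset.1 hx
    exact ⟨U, isClosed_of_finite f hU, hU, fun x hx => hs x (hF.mem_toFinset.2 hx)⟩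
  intro s
  induction s using Finset.induction with
  | empty =>
    intro _
    refine ⟨⊥, ?_, fun x hx => absurd hx (Finset.notMem_empty x)⟩
    haveI : IsEmpty (⊥ : X.Opens).toScheme := ⟨fun x => x.2⟩
    infer_instance
  | insert a s _ ih =>
    intro hs
    obtain ⟨U, hU, hsU⟩ := ih fun x hx => hs x (Finset.mem_insert_of_mem hx)
    obtain ⟨W, hW, haW, hfin, -⟩ := exists_finite_local_nhd f (hs a (Finset.mem_insert_self a s)) (f.quasiFiniteAt a)
    refine ⟨U ⊔ W, finite_sup f hU (finite_of_affine f hW hfin), fun x hx => ?_⟩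
    rcases Finset.mem_insert.1 hx with rfl | hx
    · exact Opens.mem_sup.2 (Or.inr haW)
    · exact Opens.mem_sup.2 (Or.inl (hsU x hx))

theorem isolated_point [HenselianLocalRing A] [IsSeparated f] [LocallyOfFiniteType f] {x : X}
    (hx : f x = IsLocalRing.closedPoint A) (hqf : f.QuasiFiniteAt x) :
    ((Scheme.ΓSpecIso (CommRingCat.of A)).inv ≫ f.appTop ≫ X.presheaf.germ ⊤ x trivial).hom.Finite ∧
      IsOpenImmersion (X.fromSpecStalk x) ∧ IsClosedImmersion (X.fromSpecStalk x) := by
  obtain ⟨W, hW, hxW, hfin, hloc⟩ := exists_finite_local_nhd f hx hqf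
  let q := (hW.primeIdealOf ⟨x, hxW⟩).asIdeal
  have hqmax : q.IsMaximal := by
    letI : Algebra A Γ(X, W) := (str f W).hom.toAlgebra
    haveI : Module.Finite A Γ(X, W) := hfin
    refine Ideal.isMaximal_of_isIntegral_of_isMaximal_comap (R := A) q ?_
    show (q.comap (str f W).hom).IsMaximal
    rw [comap_primeIdealOf f hW ⟨x, hxW⟩, hx]
    exact IsLocalRing.maximalIdeal.isMaximal A
  letI := TopCat.Presheaf.algebra_section_stalk X.presheaf (U := W) ⟨x, hxW⟩
  haveI : IsLocalization.AtPrime (X.presheaf.stalk x) q := hW.isLocalization_stalk ⟨x, hxW⟩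
  have hle : q.primeCompl ≤ IsUnit.submonoid Γ(X, W) := fun t ht => by
    by_contra htu
    exact ht (IsLocalRing.eq_maximalIdeal hqmax ▸ htu)
  have hbij : Function.Bijective (X.presheaf.germ W x hxW).hom :=
    (IsLocalization.atUnits Γ(X, W) q.primeCompl hle (S := X.presheaf.stalk x)).bijective
  haveI : IsIso (X.presheaf.germ W x hxW) := (ConcreteCategory.isIso_iff_bijective _).2 hbij
  have e : X.fromSpecStalk x = Spec.map (X.presheaf.germ W x hxW) ≫ hW.fromSpec :=
    (hW.fromSpecStalk_eq_fromSpecStalk hxW).symm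
  refine ⟨?_, ?_, ?_⟩
  · have h : (Scheme.ΓSpecIso (CommRingCat.of A)).inv ≫ f.appTop ≫ X.presheaf.germ ⊤ x trivial =
        str f W ≫ X.presheaf.germ W x hxW := by
      rw [str, Category.assoc, Scheme.Hom.appLE, Category.assoc, TopCat.Presheaf.germ_res]
      rfl
    rw [h]
    exact (RingHom.Finite.of_surjective _ hbij.2).comp hfin
  · rw [e]; infer_instance
  · haveI : IsClosedImmersion hW.fromSpec := .of_isPreimmersion _ (by
      rw [hW.range_fromSpec]
      exact isClosed_of_finite f (finite_of_affine f hW hfin))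
    rw [e]; infer_instance

end Groth.Agent.QfSplit16
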